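import Groth.Agent.TateLoc.K789.CdChar
import Groth.Agent.Etbc.H212.FinField
import Groth.Agent.S3482
import Groth.Agent.S3484
import Mathlib.NumberTheory.LocalField.Basic
import Mathlib.NumberTheory.FunctionField
import Mathlib.FieldTheory.RatFunc.IntermediateField
import Mathlib.RingTheory.Henselian
import Mathlib.RingTheory.AlgebraicIndependent.TranscendenceBasis

/-!
# `cd_ℓ ≤ 2` for non-archimedean local fields and for global function fields
-/

set_option autoImplicit false
universe u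

open CategoryTheory AlgebraicGeometry ValuativeRel Valued.integer Algebra

namespace K789.CdLoc

theorem cd_finite (k : Type u) [Field k] [Finite k] (ℓ : ℕ) (hℓ : ℓ.Prime) :
    Dix.CohDimLEAt (Spec (CommRingCat.of k)) ℓ 1 :=
  Groth.Agent.Etbc.H212.CdAt.cohDimLEAt_of_cohDimLE hℓ.pos (Groth.Agent.Etbc.H212.FinField.cohDimLE_finField k)

theorem mono {X : Scheme.{u}} {ℓ d e : ℕ} (h : d ≤ e) (hX : Dix.CohDimLEAt X ℓ d) : Dix.CohDimLEAt X ℓ e :=
  fun F hF q hq => hX F hF q (by omega)

theorem henselian (k : Type u) [Field k] [ValuativeRel k] [TopologicalSpace k] [IsNonarchimedeanLocalField k] :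
    HenselianLocalRing 𝒪[k] := by
  let _ := IsTopologicalAddGroup.rightUniformSpace k
  have := isUniformAddGroup_of_addCommGroup (G := k)
  have h : IsAdicComplete 𝓂[k] 𝒪[k] := inferInstance
  have h2 : HenselianRing 𝒪[k] (IsLocalRing.maximalIdeal 𝒪[k]) := @IsAdicComplete.henselianRing _ _ _ h
  exact ⟨fun f hf a h1 h3 => by
    have := h2.is_henselian f hf a h1 (by
      have h4 := h3.map (Ideal.Quotient.mk (IsLocalRing.maximalIdeal 𝒪[k]))
      exact h4)
    exact this⟩

/-- `cd_ℓ(k) ≤ 2` for a non-archimedean local field. -/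
theorem cd_localField (k : Type u) [Field k] [ValuativeRel k] [TopologicalSpace k] [IsNonarchimedeanLocalField k]
    (ℓ : ℕ) (hℓ : ℓ.Prime) : Dix.CohDimLEAt (Spec (CommRingCat.of k)) ℓ 2 := by
  by_cases h0 : (ℓ : k) = 0
  · exact mono (by omega) (CdChar.cd_char k ℓ hℓ h0)
  · have hh := henselian k
    have hfin : Finite (IsLocalRing.ResidueField 𝒪[k]) := inferInstance
    have hcd := cd_finite (IsLocalRing.ResidueField 𝒪[k]) ℓ hℓ
    exact ((Groth.Agent.S3484.result 𝒪[k] k ℓ hℓ (Or.inr ⟨h0, inferInstance, 1, hcd⟩)).1 1).1 hcd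

/-- `cd_ℓ ≤ 2` for the field of rational functions over a finite field. -/
theorem cd_ratFunc (F : Type u) [Field F] [Finite F] (ℓ : ℕ) (hℓ : ℓ.Prime) :
    Dix.CohDimLEAt (Spec (CommRingCat.of (RatFunc F))) ℓ 2 := by
  refine Groth.Agent.S3482.result F (RatFunc F) ⟨{RatFunc.X}, ?_⟩ ℓ hℓ 1 ?_ 1 (cd_finite F ℓ hℓ)
  · rw [Finset.coe_singleton]
    exact RatFunc.adjoin_X
  · have h0 : Algebra.IsAlgebraic (Polynomial F) (RatFunc F) :=
      IsLocalization.isAlgebraic _ (nonZeroDivisors (Polynomial F))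
    have h1 := trdeg_add_eq F (Polynomial F) (A := RatFunc F)
    rw [Polynomial.trdeg_of_isDomain, trdeg_eq_zero, add_zero] at h1
    rw [← h1]
    simp

/-- `cd_ℓ(k) ≤ 2` for a global function field. -/
theorem cd_functionField (F : Type u) [Field F] [Finite F] (k : Type u) [Field k] [Algebra (RatFunc F) k]
    [FunctionField F k] (ℓ : ℕ) (hℓ : ℓ.Prime) : Dix.CohDimLEAt (Spec (CommRingCat.of k)) ℓ 2 := by
  have hfin : FiniteDimensional (RatFunc F) k := inferInstance
  refine Groth.Agent.S3482.result (RatFunc F) k ?_ ℓ hℓ 0 ?_ 2 (cd_ratFunc F ℓ hℓ)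
  · exact IntermediateField.fg_of_noetherian (⊤ : IntermediateField (RatFunc F) k)
  · rw [trdeg_eq_zero]
    simp

end K789.CdLoc
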