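import Groth.Agent.S3519

/-!
# `cd_p ≤ 1` for fields of characteristic `p`
-/

set_option autoImplicit false
universe u

open CategoryTheory AlgebraicGeometry

namespace K789.CdChar

variable (k : Type u) [Field k]

/-- `cd_p ≤ 1` in characteristic `p`. -/
theorem cd_char (p : ℕ) (hp : p.Prime) (h : (p : k) = 0) : Dix.CohDimLEAt (Spec (CommRingCat.of k)) p 1 := by
  have : Fact p.Prime := ⟨hp⟩
  have : CharP k p := by
    have h2 : ringChar k ∣ p := (CharP.cast_eq_zero_iff k (ringChar k) p).1 h
    rcases (Nat.dvd_prime hp).1 h2 with h3 | h3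
    · exact absurd h3 (CharP.ringChar_ne_one)
    · rw [← h3]; infer_instance
  refine Groth.Agent.S3519.result k p (Spec (CommRingCat.of k)) (𝟙 _) 0 ?_
  have h1 : ringKrullDim k = 0 := ringKrullDim_eq_zero_of_field k
  have h2 : topologicalKrullDim (Spec (CommRingCat.of k)) = ringKrullDim k :=
    PrimeSpectrum.topologicalKrullDim_eq_ringKrullDim k
  rw [h2, h1]
  exact le_rfl

end K789.CdChar
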