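import Groth.Agent.TateLoc.K809.Les
import Groth.Prelude.Def_Dix

/-!
# Vanishing of the cohomology of an étale sheaf above the cohomological dimension

* `subsingleton_of_killed`: a sheaf killed by a positive integer has no cohomology above `d` if `cd_ℓ ≤ d` for all
  primes `ℓ`.
* `injective_smul`: multiplication by a prime `ℓ` is injective on `H^i(F)` for `i > cd_ℓ`, if `H^{i-1}` of the
  cokernel of `ℓ : F → F` vanishes.
* `surjective_smul`: it is surjective on `H^i(F)` if `H^{i+1}` of the kernel and `H^i` of the cokernel vanish.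
* `subsingleton_of_injective`: a torsion group on which all primes act injectively is zero.
-/

set_option autoImplicit false
universe u

open CategoryTheory CategoryTheory.Limits Abelian AlgebraicGeometry

namespace K789.EtVan

variable {X : Scheme.{u}}

lemma nsmul_id_app {F : EtCoh.Ab X} (n : ℕ) (U : X.Etale) (s : EtCoh.sect F U) :
    ((n • 𝟙 F : F ⟶ F).hom.app (Opposite.op U)) s = n • s := by
  induction n with
  | zero => rw [zero_smul, zero_smul]; rfl
  | succ n ih => rw [succ_nsmul, succ_nsmul, ← ih]; rfl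

/-- A sheaf killed by `ℓ` is `ℓ`-primary torsion. -/
theorem isPrimaryTorsion_of_killed {F : EtCoh.Ab X} (ℓ : ℕ) (h : ℓ • 𝟙 F = 0) : Dix.IsPrimaryTorsion ℓ F := by
  intro U s x
  refine ⟨U, 𝟙 U, ⟨x, rfl⟩, 1, ?_⟩
  have h1 : (F.obj.map (𝟙 U : U ⟶ U).op) s = s := by
    rw [op_id, F.obj.map_id]
    rfl
  rw [h1, pow_one, ← nsmul_id_app, h]
  rfl

lemma nsmul_eq_zero_of_mono {A B : EtCoh.Ab X} (i : A ⟶ B) [Mono i] (n : ℕ) (h : n • i = 0) : n • 𝟙 A = 0 := by
  rw [← cancel_mono i, zero_comp, Preadditive.nsmul_comp, Category.id_comp, h]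

lemma nsmul_eq_zero_of_epi {A B : EtCoh.Ab X} (e : A ⟶ B) [Epi e] (n : ℕ) (h : n • e = 0) : n • 𝟙 B = 0 := by
  rw [← cancel_epi e, comp_zero, Preadditive.comp_nsmul, Category.comp_id, h]

/-- The kernel sequence `0 → K → F → im f → 0`. -/
lemma shortExact_ker {A B : EtCoh.Ab X} (f : A ⟶ B) :
    (ShortComplex.mk (kernel.ι f) (Abelian.factorThruImage f) (by
      rw [← cancel_mono (Abelian.image.ι f), Category.assoc, Abelian.image.fac, kernel.condition, zero_comp])).ShortExact where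
  exact := by
    refine ShortComplex.exact_of_f_is_kernel _ ?_
    refine KernelFork.IsLimit.ofι' _ _ fun {W} k hk => ⟨kernel.lift f k ?_, ?_⟩
    · rw [← Abelian.image.fac f, ← Category.assoc, hk, zero_comp]
    · exact kernel.lift_ι _ _ _
  mono_f := by dsimp; infer_instance
  epi_g := by dsimp; infer_instance

/-- The cokernel sequence `0 → im f → B → coker f → 0`. -/
lemma shortExact_coker {A B : EtCoh.Ab X} (f : A ⟶ B) :
    (ShortComplex.mk (Abelian.image.ι f) (cokernel.π f) (by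
      exact kernel.condition _)).ShortExact where
  exact := ShortComplex.exact_of_f_is_kernel _ (kernelIsKernel _)
  mono_f := by dsimp; infer_instance
  epi_g := by dsimp; infer_instance

theorem killed_ker {F : EtCoh.Ab X} (n : ℕ) : n • 𝟙 (kernel (n • 𝟙 F)) = 0 := by
  apply nsmul_eq_zero_of_mono (kernel.ι (n • 𝟙 F))
  have := kernel.condition (n • 𝟙 F)
  rwa [Preadditive.comp_nsmul, Category.comp_id] at this

theorem killed_coker {F : EtCoh.Ab X} (n : ℕ) : n • 𝟙 (cokernel (n • 𝟙 F)) = 0 := by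
  apply nsmul_eq_zero_of_epi (cokernel.π (n • 𝟙 F))
  have := cokernel.condition (n • 𝟙 F)
  rwa [Preadditive.nsmul_comp, Category.id_comp] at this

variable (X) in
/-- A sheaf killed by `n > 0` has no cohomology in degrees `> d` if `cd_ℓ ≤ d` for the primes `ℓ ∣ n`. -/
theorem subsingleton_of_killed (d : ℕ) (n : ℕ) (hn : n ≠ 0)
    (hcd : ∀ ℓ : ℕ, ℓ.Prime → ℓ ∣ n → Dix.CohDimLEAt X ℓ d) (F : EtCoh.Ab X)
    (h : n • 𝟙 F = 0) (i : ℕ) (hi : d < i) : Subsingleton (EtCoh.H X F i) := by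
  induction n using Nat.recOnMul generalizing F with
  | zero => exact absurd rfl hn
  | one =>
    rw [one_smul] at h
    have h0 : IsZero F := (IsZero.iff_id_eq_zero F).2 h
    refine subsingleton_of_forall_eq 0 fun x => ?_
    have := K809.Les.mp_nsmul_id (X := (constantSheaf X.smallEtaleTopology AddCommGrpCat.{u + 1}).obj
      (AddCommGrpCat.of (ULift ℤ))) (A := F) 1 i x
    rw [one_smul, one_smul, h] at this
    rw [← this]
    exact K809.Les.mp_zero _ i x
  | prime p hp =>
    exact hcd p hp dvd_rfl F (isPrimaryTorsion_of_killed p h) i hi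
  | mul a b iha ihb =>
    have ha : a ≠ 0 := fun h => hn (by rw [h, zero_mul])
    have hb : b ≠ 0 := fun h => hn (by rw [h, mul_zero])
    have h1 := iha ha (fun ℓ hℓ hd => hcd ℓ hℓ (hd.mul_right b)) (kernel (a • 𝟙 F)) (killed_ker a)
    have h2 : b • 𝟙 (Abelian.image (a • 𝟙 F)) = 0 := by
      apply nsmul_eq_zero_of_epi (Abelian.factorThruImage (a • 𝟙 F))
      rw [← cancel_mono (Abelian.image.ι (a • 𝟙 F)), Preadditive.nsmul_comp, Abelian.image.fac, zero_comp,
        ← mul_smul, mul_comm, h]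
    have h3 := ihb hb (fun ℓ hℓ hd => hcd ℓ hℓ (hd.mul_left a)) _ h2
    exact K809.Les.subsingleton_mid _ (shortExact_ker (a • 𝟙 F)) h1 h3

variable (X) in
/-- Multiplication by `n` is injective on `H^{i+1}(F)` if `H^{i+1}` of the kernel and `H^i` of the cokernel vanish. -/
theorem injective_smul (F : EtCoh.Ab X) (n i : ℕ)
    (hK : Subsingleton (EtCoh.H X (kernel (n • 𝟙 F)) (i + 1)))
    (hC : Subsingleton (EtCoh.H X (cokernel (n • 𝟙 F)) i)) (x : EtCoh.H X F (i + 1)) (hx : n • x = 0) : x = 0 := by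
  let Z := (constantSheaf X.smallEtaleTopology AddCommGrpCat.{u + 1}).obj (AddCommGrpCat.of (ULift ℤ))
  have e1 := K809.Les.exact₂ Z (shortExact_ker (n • 𝟙 F)) (i + 1)
  have e2 := K809.Les.exact₁ Z (shortExact_coker (n • 𝟙 F)) i
  have hx1 : K809.Les.mp Z (Abelian.image.ι (n • 𝟙 F)) (i + 1)
      (K809.Les.mp Z (Abelian.factorThruImage (n • 𝟙 F)) (i + 1) x) = 0 := by
    rw [← K809.Les.mp_comp, Abelian.image.fac, K809.Les.mp_nsmul_id]
    exact hx
  obtain ⟨y, hy⟩ := (e2 _).1 hx1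
  have hy0 : y = 0 := Subsingleton.elim (α := EtCoh.H X (cokernel (n • 𝟙 F)) i) _ _
  rw [hy0, map_zero] at hy
  obtain ⟨z, hz⟩ := (e1 x).1 hy.symm
  have hz0 : z = 0 := Subsingleton.elim (α := EtCoh.H X (kernel (n • 𝟙 F)) (i + 1)) _ _
  rw [hz0, map_zero] at hz
  exact hz.symm

variable (X) in
/-- Multiplication by `n` is surjective on `H^i(F)` if `H^{i+1}` of the kernel and `H^i` of the cokernel vanish. -/
theorem surjective_smul (F : EtCoh.Ab X) (n i : ℕ)
    (hK : Subsingleton (EtCoh.H X (kernel (n • 𝟙 F)) (i + 1)))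
    (hC : Subsingleton (EtCoh.H X (cokernel (n • 𝟙 F)) i)) (x : EtCoh.H X F i) : ∃ y, n • y = x := by
  let Z := (constantSheaf X.smallEtaleTopology AddCommGrpCat.{u + 1}).obj (AddCommGrpCat.of (ULift ℤ))
  have e1 := K809.Les.exact₃ Z (shortExact_ker (n • 𝟙 F)) i
  have e2 := K809.Les.exact₂ Z (shortExact_coker (n • 𝟙 F)) i
  obtain ⟨y, hy⟩ := (e2 x).1 (Subsingleton.elim (α := EtCoh.H X (cokernel (n • 𝟙 F)) i) _ _)
  obtain ⟨z, hz⟩ := (e1 y).1 (Subsingleton.elim (α := EtCoh.H X (kernel (n • 𝟙 F)) (i + 1)) _ _)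
  refine ⟨z, ?_⟩
  rw [← hy, ← hz]
  dsimp only
  rw [← K809.Les.mp_comp, Abelian.image.fac, K809.Les.mp_nsmul_id]

theorem subsingleton_of_injective {A : Type*} [AddCommGroup A] (h : ∀ a : A, IsOfFinAddOrder a)
    (h' : ∀ ℓ : ℕ, ℓ.Prime → ∀ a : A, ℓ • a = 0 → a = 0) : Subsingleton A := by
  have key : ∀ n : ℕ, n ≠ 0 → ∀ a : A, n • a = 0 → a = 0 := by
    intro n
    induction n using Nat.recOnMul with
    | zero => exact fun h => absurd rfl h
    | one => intro _ a ha; rwa [one_smul] at ha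
    | prime p hp => intro _ a ha; exact h' p hp a ha
    | mul m n hm hn =>
      intro h0 a ha
      rw [mul_smul] at ha
      exact hn (fun h => h0 (by rw [h, mul_zero])) a (hm (fun h => h0 (by rw [h, zero_mul])) _ ha)
  refine subsingleton_of_forall_eq 0 fun a => ?_
  obtain ⟨n, hn, hna⟩ := isOfFinAddOrder_iff_nsmul_eq_zero.1 (h a)
  exact key n hn.ne' a hna

end K789.EtVan
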