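import Groth.Agent.Etcore.Stalks
import Groth.Prelude.Def_CGrpSh
import Groth.Agent.TateLoc.K789.EtVan
import Mathlib.CategoryTheory.Sites.LocallySurjective
import Mathlib.CategoryTheory.Sites.EpiMono

/-!
# Divisibility of the étale sheaf of points of a commutative group scheme

`epi_smul_image`: if `[N]` and `[n N]` have the same image in `G` and `[n N]` is étale, multiplication by `n` is an
epimorphism of the image of `N : F → F`, `F` the étale sheaf of points of `G`.
-/

set_option autoImplicit false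
universe u

open CategoryTheory CategoryTheory.Limits AlgebraicGeometry MonoidalCategory CartesianMonoidalCategory MonObj Opposite

namespace K789.DivSh

variable {S : Scheme.{u}} (G : Over S) [GrpObj G] [IsCommMonObj G]

/-- The étale sheaf of points. -/
noncomputable abbrev etSh : EtCoh.Ab S :=
  (BigSite.resEt Scheme.fppfPrecoverage S).obj (CGrpSh.pts Scheme.fppfPrecoverage G)

/-- The point underlying a section. -/
noncomputable def pt {V : S.Etale} (x : EtCoh.sect (etSh G) V) :
    (EtFppf.a S).obj V ⟶ G :=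
  (ULift.down x : Additive ((EtFppf.a S).obj V ⟶ G)).toMul

/-- The section of a point. -/
noncomputable def sec {V : S.Etale} (x : (EtFppf.a S).obj V ⟶ G) :
    EtCoh.sect (etSh G) V := ULift.up (Additive.ofMul x)

lemma pt_sec {V : S.Etale} (x : (EtFppf.a S).obj V ⟶ G) :
    pt G (sec G x) = x := rfl

lemma pt_injective {V : S.Etale} {x y : EtCoh.sect (etSh G) V} (h : pt G x = pt G y) :
    x = y := by
  have : sec G (pt G x) = sec G (pt G y) := by rw [h]
  exact this

lemma pt_map {V W : S.Etale} (g : W ⟶ V) (x : EtCoh.sect (etSh G) V) :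
    pt G ((etSh G).obj.map g.op x) = (EtFppf.a S).map g ≫ pt G x := rfl

lemma pt_nsmul {V : S.Etale} (n : ℕ) (x : EtCoh.sect (etSh G) V) :
    pt G (n • x) = pt G x ≫ (𝟙 G) ^ n := by
  rw [MonObj.comp_pow, Category.comp_id]
  rfl

set_option backward.isDefEq.respectTransparency.types false in
/-- Points in the image of `[m]` are étale locally divisible by `m`. -/
theorem exists_div (m : ℕ) [Etale ((𝟙 G : G ⟶ G) ^ m).left] {V : S.Etale} (x : EtCoh.sect (etSh G) V)
    (hx : Set.range (pt G x).left ⊆ Set.range ((𝟙 G : G ⟶ G) ^ m).left) (v : V.left) :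
    ∃ (W : S.Etale) (g : W ⟶ V) (w : W.left) (y : EtCoh.sect (etSh G) W), g.left w = v ∧
      (etSh G).obj.map g.op x = m • y := by
  let xl : V.left ⟶ G.left := (pt G x).left
  let f : G.left ⟶ G.left := ((𝟙 G : G ⟶ G) ^ m).left
  have hxl : xl ≫ G.hom = V.hom := Over.w (pt G x)
  have hf : f ≫ G.hom = G.hom := Over.w ((𝟙 G : G ⟶ G) ^ m)
  obtain ⟨z, hz⟩ := hx ⟨v, rfl⟩
  obtain ⟨w, hw1, hw2⟩ := Scheme.Pullback.exists_preimage_pullback (f := xl) (g := f) v z hz.symm
  have he : Etale (pullback.fst xl f) := inferInstance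
  have hV : Etale V.hom := V.prop
  have heW : Etale (pullback.fst xl f ≫ V.hom) := inferInstance
  let W : S.Etale := Scheme.Etale.mk (pullback.fst xl f ≫ V.hom)
  let g : W ⟶ V := MorphismProperty.Over.homMk (pullback.fst xl f) rfl
  let y : (EtFppf.a S).obj W ⟶ G := Over.homMk (pullback.snd xl f) (by
    change pullback.snd xl f ≫ G.hom = pullback.fst xl f ≫ V.hom
    rw [← hf, ← Category.assoc, ← pullback.condition, Category.assoc, hxl])
  refine ⟨W, g, w, sec G y, hw1, pt_injective G ?_⟩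
  rw [pt_map, pt_nsmul, pt_sec]
  apply Over.OverMorphism.ext
  change pullback.fst xl f ≫ xl = pullback.snd xl f ≫ f
  exact pullback.condition

/-- Sections which are locally divisible by `m` land in the range of `[m]`. -/
theorem range_subset (m : ℕ) {V : S.Etale} (x : EtCoh.sect (etSh G) V)
    (h : ∀ v : V.left, ∃ (W : S.Etale) (g : W ⟶ V) (w : W.left) (y : EtCoh.sect (etSh G) W), g.left w = v ∧
      (etSh G).obj.map g.op x = m • y) : Set.range (pt G x).left ⊆ Set.range ((𝟙 G : G ⟶ G) ^ m).left := by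
  rintro _ ⟨v, rfl⟩
  obtain ⟨W, g, w, y, hw, hy⟩ := h v
  have h1 : (EtFppf.a S).map g ≫ pt G x = pt G y ≫ (𝟙 G) ^ m := by
    rw [← pt_map, hy, pt_nsmul]
  have h2 : g.left ≫ (pt G x).left = (pt G y).left ≫ ((𝟙 G : G ⟶ G) ^ m).left := congrArg (fun t => t.left) h1
  refine ⟨(pt G y).left w, ?_⟩
  rw [← hw]
  exact (congrArg (fun t => t w) (congrArg (fun t => t.base.hom) h2)).symm

open Groth.Agent.Etcore in
theorem exists_local_of_epi {X : Scheme.{u}} {A B : EtCoh.Ab X} (e : A ⟶ B) [Epi e] {V : X.Etale}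
    (b : EtCoh.sect B V) (v : V.left) : ∃ (W : X.Etale) (g : W ⟶ V) (w : W.left) (a : EtCoh.sect A W), g.left w = v ∧
      e.hom.app (op W) a = B.obj.map g.op b := by
  have h1 : Sheaf.IsLocallySurjective e := (Sheaf.isLocallySurjective_iff_epi' _ e).2 inferInstance
  have h2 := h1.imageSieve_mem b
  obtain ⟨W, g, w, ⟨a, ha⟩, hw⟩ := (Stalks.mem_iff _).1 h2 v
  exact ⟨W, g, w, a, hw, ha⟩

open Groth.Agent.Etcore in
theorem epi_of_local {X : Scheme.{u}} {A B : EtCoh.Ab X} (e : A ⟶ B)
    (h : ∀ {V : X.Etale} (b : EtCoh.sect B V) (v : V.left), ∃ (W : X.Etale) (g : W ⟶ V) (w : W.left)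
      (a : EtCoh.sect A W), g.left w = v ∧ e.hom.app (op W) a = B.obj.map g.op b) : Epi e := by
  rw [← Sheaf.isLocallySurjective_iff_epi']
  refine ⟨fun {V} b => ?_⟩
  refine (Stalks.mem_iff _).2 fun v => ?_
  obtain ⟨W, g, w, a, hw, ha⟩ := h (V := V) b v
  exact ⟨W, g, w, ⟨a, ha⟩, hw⟩

theorem injective_of_mono {X : Scheme.{u}} {A B : EtCoh.Ab X} (i : A ⟶ B) [Mono i] (V : X.Etale) :
    Function.Injective (i.hom.app (op V)) := by
  have h1 : Mono i.hom := inferInstanceAs (Mono ((sheafToPresheaf _ _).map i))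
  have h2 : Mono (i.hom.app (op V)) := inferInstance
  exact (AddCommGrpCat.mono_iff_injective _).1 h2

/-- Multiplication by `n` is an epimorphism of the image of multiplication by `N`. -/
theorem epi_smul_image (n N : ℕ) [Etale ((𝟙 G : G ⟶ G) ^ (n * N)).left]
    (hst : Set.range ((𝟙 G : G ⟶ G) ^ N).left ⊆ Set.range ((𝟙 G : G ⟶ G) ^ (n * N)).left) :
    Epi (n • 𝟙 (Abelian.image (N • 𝟙 (etSh G)))) := by
  let e := Abelian.factorThruImage (N • 𝟙 (etSh G))
  let i := Abelian.image.ι (N • 𝟙 (etSh G))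
  have hei : e ≫ i = N • 𝟙 (etSh G) := Abelian.image.fac _
  have key : Epi (n • e) := by
    apply epi_of_local
    intro V b v
    have hr : Set.range (pt G (i.hom.app (op V) b)).left ⊆ Set.range ((𝟙 G : G ⟶ G) ^ (n * N)).left := by
      refine (range_subset G N _ fun v' => ?_).trans hst
      obtain ⟨W, g, w, a, hw, ha⟩ := exists_local_of_epi e b v'
      refine ⟨W, g, w, a, hw, ?_⟩
      have h1 : (etSh G).obj.map g.op (i.hom.app (op V) b) = i.hom.app (op W) ((Abelian.image (N • 𝟙 (etSh G))).obj.map g.op b) := by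
        exact (NatTrans.naturality_apply i.hom g.op b).symm
      rw [h1, ← ha]
      have h2 : i.hom.app (op W) (e.hom.app (op W) a) = (e ≫ i).hom.app (op W) a := rfl
      rw [h2, hei]
      exact EtVan.nsmul_id_app N W a
    obtain ⟨W, g, w, y, hw, hy⟩ := exists_div G (n * N) _ hr v
    refine ⟨W, g, w, y, hw, ?_⟩
    apply injective_of_mono i W
    have h1 : (etSh G).obj.map g.op (i.hom.app (op V) b) = i.hom.app (op W) ((Abelian.image (N • 𝟙 (etSh G))).obj.map g.op b) := by
      exact (NatTrans.naturality_apply i.hom g.op b).symm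
    rw [← h1, hy]
    have h2 : i.hom.app (op W) ((n • e).hom.app (op W) y) = ((n • e) ≫ i).hom.app (op W) y := rfl
    rw [h2, Preadditive.nsmul_comp, hei, ← mul_smul]
    exact EtVan.nsmul_id_app (n * N) W y
  have h3 : e ≫ (n • 𝟙 (Abelian.image (N • 𝟙 (etSh G)))) = n • e := by
    rw [Preadditive.comp_nsmul, Category.comp_id]
  rw [← h3] at key
  exact epi_of_epi e _

end K789.DivSh
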