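import Groth.Agent.Sga3C.ArtinHom
import Groth.Agent.Grpsch.KerMul
import Mathlib.AlgebraicGeometry.Noetherian

/-!
# Images of multiplication maps stabilise

`exists_stable`: for `G` commutative of finite type over a field `k` there is an integer `N`, invertible in `k`, such
that `[N]` and `[n N]` have the same image for all `n` invertible in `k`.
-/

set_option autoImplicit false
universe u

open CategoryTheory CategoryTheory.Limits AlgebraicGeometry MonoidalCategory CartesianMonoidalCategory MonObj Opposite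

namespace K789.Divis

variable (k : Type u) [Field k] (G : Over (Spec (CommRingCat.of k))) [GrpObj G] [IsCommMonObj G]
    [LocallyOfFiniteType G.hom] [QuasiCompact G.hom]

omit [GrpObj G] [IsCommMonObj G] in
theorem isNoetherian_left : IsNoetherian G.left := by
  have h1 : IsLocallyNoetherian G.left := LocallyOfFiniteType.isLocallyNoetherian G.hom
  have h2 : CompactSpace G.left := HasAffineProperty.iff_of_isAffine (P := @QuasiCompact).1 ‹QuasiCompact G.hom›
  exact {}

theorem isClosed_range_pow (n : ℕ) : IsClosed (Set.range ((𝟙 G : G ⟶ G) ^ n).left) := by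
  have := isNoetherian_left k G
  have h1 : IsMonHom ((𝟙 G : G ⟶ G) ^ n) := Groth.Agent.Grpsch.KerMul.isMonHom_id_pow n
  exact Groth.Agent.Sga3C.ArtinHom.isClosed_range ((𝟙 G : G ⟶ G) ^ n)

omit [IsCommMonObj G] [LocallyOfFiniteType G.hom] [QuasiCompact G.hom] in
lemma range_mul_subset (n N : ℕ) : Set.range ((𝟙 G : G ⟶ G) ^ (n * N)).left ⊆ Set.range ((𝟙 G : G ⟶ G) ^ N).left := by
  have h : (𝟙 G : G ⟶ G) ^ (n * N) = ((𝟙 G : G ⟶ G) ^ n) ≫ ((𝟙 G : G ⟶ G) ^ N) := by
    rw [MonObj.comp_pow, Category.comp_id, pow_mul]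
  rw [h]
  rintro _ ⟨x, rfl⟩
  exact ⟨((𝟙 G : G ⟶ G) ^ n).left x, rfl⟩

theorem exists_stable : ∃ N : ℕ, (N : k) ≠ 0 ∧ ∀ n : ℕ, (n : k) ≠ 0 →
    Set.range ((𝟙 G : G ⟶ G) ^ N).left ⊆ Set.range ((𝟙 G : G ⟶ G) ^ (n * N)).left := by
  have := isNoetherian_left k G
  let S : Set (TopologicalSpace.Closeds G.left) :=
    {Z | ∃ N : ℕ, (N : k) ≠ 0 ∧ (Z : Set G.left) = Set.range ((𝟙 G : G ⟶ G) ^ N).left}
  have hne : S.Nonempty := ⟨⟨_, isClosed_range_pow k G 1⟩, 1, by simp, rfl⟩
  obtain ⟨Z, ⟨N, hN, hZ⟩, hmin⟩ := WellFounded.has_min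
    (wellFounded_lt (α := TopologicalSpace.Closeds G.left)) S hne
  refine ⟨N, hN, fun n hn => ?_⟩
  by_contra hc
  have hlt : (⟨_, isClosed_range_pow k G (n * N)⟩ : TopologicalSpace.Closeds G.left) < Z := by
    refine lt_of_le_of_ne ?_ ?_
    · intro x hx
      change x ∈ (Z : Set G.left)
      rw [hZ]
      exact range_mul_subset k G n N hx
    · intro h
      apply hc
      rw [← hZ, ← h]
      rfl
  exact hmin _ ⟨n * N, by rw [Nat.cast_mul]; exact mul_ne_zero hn hN, rfl⟩ hlt

end K789.Divis
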