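import Groth.Agent.GrpSch.K267.DeligneSch
import Mathlib.RingTheory.Nilpotent.Lemmas
import Mathlib.RingTheory.Artinian.Ring

/-!
# An infinitesimal commutative group scheme over a field of characteristic `p` is killed by a power of `p`
-/

set_option autoImplicit false
universe u

open CategoryTheory Limits MonoidalCategory CartesianMonoidalCategory MonObj GrpObj AlgebraicGeometry
open WithConv TensorProduct Coalgebra

namespace K789.InfPow

section Alg

variable {k C : Type u} [Field k] [CommRing C] [HopfAlgebra k C]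

/-- `f` maps the augmentation ideal into `I`. -/
def Into (f : WithConv (C →ₐ[k] C)) (I : Ideal C) : Prop := ∀ x : C, counit (R := k) x = 0 → f x ∈ I

lemma apply_algebraMap (f : WithConv (C →ₐ[k] C)) (a : k) : f (algebraMap k C a) = algebraMap k C a :=
  f.ofConv.commutes a

lemma apply_add (f : WithConv (C →ₐ[k] C)) (a b : C) : f (a + b) = f a + f b := f.ofConv.map_add a b
lemma apply_sub (f : WithConv (C →ₐ[k] C)) (a b : C) : f (a - b) = f a - f b := f.ofConv.map_sub a b
lemma apply_mul (f : WithConv (C →ₐ[k] C)) (a b : C) : f (a * b) = f a * f b := f.ofConv.map_mul a b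
lemma apply_sum (f : WithConv (C →ₐ[k] C)) {J : Type*} (s : Finset J) (a : J → C) : f (∑ i ∈ s, a i) = ∑ i ∈ s, f (a i) :=
  map_sum f.ofConv a s

/-- `(f * g)(x) ≡ f(x) + g(x)`. -/
theorem mul_sub_mem {f g : WithConv (C →ₐ[k] C)} {I J : Ideal C} (hf : Into f I) (hg : Into g J) (x : C)
    (hx : counit (R := k) x = 0) : (f * g) x - f x - g x ∈ I * J := by
  let r := ℛ k x
  have e0 : (f * g) x = ∑ i ∈ r.index, f (r.left i) * g (r.right i) := by
    rw [AlgHom.convMul_apply, ← r.eq, map_sum]
    refine Finset.sum_congr rfl fun i _ => ?_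
    rw [Algebra.TensorProduct.lift_tmul]
  have e1 : g x = ∑ i ∈ r.index, algebraMap k C (counit (r.left i)) * g (r.right i) := by
    conv_lhs => rw [← sum_counit_smul r]
    rw [apply_sum]
    refine Finset.sum_congr rfl fun i _ => ?_
    rw [Algebra.smul_def, apply_mul, apply_algebraMap]
  have e2' : ∑ i ∈ r.index, r.left i * algebraMap k C (counit (r.right i)) = x := by
    have h := congrArg (TensorProduct.rid k C) (sum_tmul_counit_eq r)
    rw [map_sum, TensorProduct.rid_tmul, one_smul] at h
    refine Eq.trans (Finset.sum_congr rfl fun i _ => ?_) h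
    rw [TensorProduct.rid_tmul, Algebra.smul_def, mul_comm]
  have e2 : f x = ∑ i ∈ r.index, f (r.left i) * algebraMap k C (counit (r.right i)) := by
    conv_lhs => rw [← e2']
    rw [apply_sum]
    refine Finset.sum_congr rfl fun i _ => ?_
    rw [apply_mul, apply_algebraMap]
  have e3 : ∑ i ∈ r.index, algebraMap k C (counit (r.left i)) * algebraMap k C (counit (r.right i)) = 0 := by
    have h := congrArg (counit (R := k)) (sum_counit_smul r)
    rw [map_sum, hx] at h
    have h2 := congrArg (algebraMap k C) h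
    rw [map_sum, map_zero] at h2
    rw [← h2]
    refine Finset.sum_congr rfl fun i _ => ?_
    rw [map_smul, smul_eq_mul, map_mul]
  have key : (f * g) x - f x - g x = ∑ i ∈ r.index, f (r.left i - algebraMap k C (counit (r.left i))) *
      g (r.right i - algebraMap k C (counit (r.right i))) := by
    have h4 : ∀ i, f (r.left i - algebraMap k C (counit (r.left i))) *
      g (r.right i - algebraMap k C (counit (r.right i))) =
        f (r.left i) * g (r.right i) - f (r.left i) * algebraMap k C (counit (r.right i)) -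
          algebraMap k C (counit (r.left i)) * g (r.right i) +
          algebraMap k C (counit (r.left i)) * algebraMap k C (counit (r.right i)) := by
      intro i
      rw [apply_sub, apply_sub, apply_algebraMap, apply_algebraMap]
      ring
    rw [Finset.sum_congr rfl fun i _ => h4 i, Finset.sum_add_distrib, Finset.sum_sub_distrib, Finset.sum_sub_distrib, e3,
      ← e0, ← e1, ← e2, add_zero]
  rw [key]
  refine Ideal.sum_mem _ fun i _ => Ideal.mul_mem_mul (hf _ ?_) (hg _ ?_)
  · rw [map_sub, Bialgebra.counit_algebraMap, sub_self]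
  · rw [map_sub, Bialgebra.counit_algebraMap, sub_self]

theorem pow_sub_mem {f : WithConv (C →ₐ[k] C)} {I : Ideal C} (hf : Into f I) (n : ℕ) :
    (∀ x : C, counit (R := k) x = 0 → (f ^ n) x - (n : C) * f x ∈ I * I) ∧ Into (f ^ n) I := by
  induction n with
  | zero =>
    refine ⟨fun x hx => ?_, fun x hx => ?_⟩
    · rw [pow_zero, AlgHom.convOne_apply, hx]
      simp
    · rw [pow_zero, AlgHom.convOne_apply, hx]
      simp
  | succ n ih =>
    have h1 : ∀ x : C, counit (R := k) x = 0 → (f ^ (n + 1)) x - ((n + 1 : ℕ) : C) * f x ∈ I * I := by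
      intro x hx
      have h2 := mul_sub_mem ih.2 hf x hx
      have h3 := ih.1 x hx
      rw [pow_succ]
      have h4 : (f ^ n * f) x - ((n + 1 : ℕ) : C) * f x = ((f ^ n * f) x - (f ^ n) x - f x) + ((f ^ n) x - (n : C) * f x) := by
        push_cast
        ring
      rw [h4]
      exact Ideal.add_mem _ h2 h3
    refine ⟨h1, fun x hx => ?_⟩
    have h2 : (f ^ (n + 1)) x = ((f ^ (n + 1)) x - ((n + 1 : ℕ) : C) * f x) + ((n + 1 : ℕ) : C) * f x := by ring
    rw [h2]
    exact Ideal.add_mem _ (Ideal.mul_le_left (h1 x hx)) (Ideal.mul_mem_left _ _ (hf x hx))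

theorem into_pow_prime {p : ℕ} [CharP k p] {f : WithConv (C →ₐ[k] C)} {I : Ideal C} (hf : Into f I) :
    Into (f ^ p) (I * I) := by
  intro x hx
  have h1 := (pow_sub_mem hf p).1 x hx
  have h2 : ((p : ℕ) : C) = 0 := by
    have := congrArg (algebraMap k C) (CharP.cast_eq_zero k p)
    rwa [map_natCast, map_zero] at this
  rwa [h2, zero_mul, sub_zero] at h1

theorem into_pow_pow (p : ℕ) [CharP k p] (r : ℕ) :
    Into (toConv (AlgHom.id k C) ^ (p ^ r)) ((RingHom.ker (Bialgebra.counitAlgHom k C)) ^ (2 ^ r)) := by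
  induction r with
  | zero =>
    intro x hx
    rw [pow_zero, pow_one, pow_zero, pow_one]
    exact hx
  | succ r ih =>
    have h := into_pow_prime (p := p) ih
    rw [← pow_mul, ← pow_succ] at h
    rwa [pow_succ 2 r, pow_mul, sq]

/-- The identity has `p`-power order when the augmentation ideal is nilpotent. -/
theorem exists_pow_eq_one (p : ℕ) [CharP k p] (h : IsNilpotent (RingHom.ker (Bialgebra.counitAlgHom k C))) :
    ∃ r : ℕ, toConv (AlgHom.id k C) ^ (p ^ r) = 1 := by
  obtain ⟨n, hn⟩ := h
  obtain ⟨r, hr⟩ : ∃ r : ℕ, n ≤ 2 ^ r := ⟨n, Nat.lt_two_pow_self.le⟩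
  refine ⟨r, ?_⟩
  have h1 := into_pow_pow (k := k) (C := C) p r
  have h0 : (RingHom.ker (Bialgebra.counitAlgHom k C)) ^ (2 ^ r) = ⊥ := by
    rw [eq_bot_iff]
    exact (Ideal.pow_le_pow_right hr).trans (le_of_eq hn)
  rw [h0] at h1
  have h2 : ∀ x : C, (toConv (AlgHom.id k C) ^ (p ^ r)) x = algebraMap k C (counit x) := by
    intro x
    have h3 : counit (R := k) (x - algebraMap k C (counit x)) = 0 := by
      rw [map_sub, Bialgebra.counit_algebraMap, sub_self]
    have h4 := h1 _ h3
    rw [Ideal.mem_bot, apply_sub, apply_algebraMap, sub_eq_zero] at h4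
    exact h4
  have h5 : (toConv (AlgHom.id k C) ^ (p ^ r)).ofConv = (1 : WithConv (C →ₐ[k] C)).ofConv := by
    apply AlgHom.ext
    intro x
    exact h2 x
  exact congrArg toConv h5

end Alg

section Sch

variable {k : Type u} [Field k]

theorem finite_of_iso {C : Type u} [CommRing C] [Algebra k C] {X : Scheme.{u}}
    (f : X ⟶ Spec (CommRingCat.of k)) [IsFinite f]
    (j : Spec (CommRingCat.of C) ⟶ X) [IsIso j]
    (hw : j ≫ f = Spec.map (CommRingCat.ofHom (algebraMap k C))) : Module.Finite k C := by
  have : IsFinite (j ≫ f) := inferInstance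
  rw [hw, IsFinite.SpecMap_iff] at this
  exact RingHom.finite_algebraMap.mp this

/-- An infinitesimal commutative group scheme over a field of characteristic `p` is killed by a power of `p`. -/
theorem id_pow_eq_one (p : ℕ) [CharP k p] (G : Over (Spec (CommRingCat.of k))) [GrpObj G]
    [IsFinite G.hom] [Subsingleton G.left] : ∃ r : ℕ, (𝟙 G : G ⟶ G) ^ (p ^ r) = 1 := by
  have : IsAffine G.left := isAffine_of_isAffineHom G.hom
  have h2 : (hopfSpec (CommRingCat.of k)).essImage (Grp.mk G) := essImage_hopfSpec.2 this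
  obtain ⟨C, ⟨e⟩⟩ := h2
  let C' : Type u := C.unop
  let G' : Over (Spec (CommRingCat.of k)) := (Spec (CommRingCat.of C')).asOver (Spec (CommRingCat.of k))
  let i : G' ≅ G := (Grp.forget _).mapIso e
  have hi : IsMonHom i.hom := inferInstanceAs (IsMonHom (e.hom.hom.hom))
  have hi' : IsMonHom i.inv := inferInstanceAs (IsMonHom (e.inv.hom.hom))
  have hil : IsIso i.hom.left := inferInstanceAs (IsIso ((Over.forget _).map i.hom))
  have hil' : IsIso (X := Spec (CommRingCat.of C')) i.hom.left := hil
  have hfin : Module.Finite k C' := by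
    exact finite_of_iso (C := C') G.hom i.hom.left (Over.w i.hom)
  have hsub : Subsingleton (PrimeSpectrum C') := by
    refine ⟨fun x y => ?_⟩
    have hinj : Function.Injective i.hom.left := (Scheme.homeoOfIso (asIso i.hom.left)).injective
    exact hinj (Subsingleton.elim (α := G.left) _ _)
  have hnil : IsNilpotent (RingHom.ker (Bialgebra.counitAlgHom k C')) := by
    have hart : IsArtinianRing C' := IsArtinianRing.of_finite k C'
    have hmax : (RingHom.ker (Bialgebra.counitAlgHom k C')).IsMaximal :=
      RingHom.ker_isMaximal_of_surjective _ (fun a => ⟨algebraMap k C' a, by simp⟩)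
    have h1 : nilradical C' = RingHom.ker (Bialgebra.counitAlgHom k C') := by
      have hp := hmax.isPrime
      rw [nilradical_eq_sInf]
      apply le_antisymm
      · exact sInf_le hp
      · refine le_sInf fun J hJ => ?_
        have := Subsingleton.elim (⟨J, hJ⟩ : PrimeSpectrum C') ⟨_, hp⟩
        exact (congrArg PrimeSpectrum.asIdeal this).symm.le
    rw [← h1]
    exact IsArtinianRing.isNilpotent_nilradical
  obtain ⟨r, hr⟩ := exists_pow_eq_one (k := k) (C := C') p hnil
  refine ⟨r, ?_⟩
  have key := K267.DeligneSch.id_pow_eq_one_spec (R := k) (C := C') _ hr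
  have h3 : i.inv ≫ (((𝟙 G') ^ (p ^ r)) ≫ i.hom) = (𝟙 G) ^ (p ^ r) := by
    rw [MonObj.pow_comp, Category.id_comp, MonObj.comp_pow, Iso.inv_hom_id]
  rw [← h3]
  have h4 : (𝟙 G') ^ (p ^ r) = 1 := key
  rw [h4, MonObj.one_comp, MonObj.comp_one]

end Sch

end K789.InfPow
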