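import Groth.Agent.TateLoc.K809.TorsTwo
import Groth.Agent.TateLoc.K809.UnitSch
import Groth.Agent.TateLoc.K809.QuotFin
import Groth.Agent.TateLoc.K809.SeqExact
import Groth.Agent.S0115
import Groth.Agent.S4112
import Groth.Agent.TateLoc.K789.CdChar
import Groth.Agent.TateLoc.K789.DivSh
import Groth.Agent.TateLoc.K789.Divis
import Groth.Agent.TateLoc.K789.InfPow

/-!
# Cohomology of commutative group schemes of finite type above the cohomological dimension of the field

`subsingleton_H`: if `cd_ℓ(k) ≤ d` for all primes `ℓ`, `2 ≤ d`, then `H^i_fppf(k, G) = 0` for `i > d` and all commutative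
group schemes `G` of finite type over `k`.
-/

set_option autoImplicit false
universe u

open CategoryTheory CategoryTheory.Limits AlgebraicGeometry MonoidalCategory CartesianMonoidalCategory MonObj Opposite

namespace K789.GrpVan

variable {k : Type u} [Field k]

theorem subsingleton_et (d : ℕ) (hd : 2 ≤ d) (hcd : ∀ ℓ : ℕ, ℓ.Prime → Dix.CohDimLEAt (Spec (CommRingCat.of k)) ℓ d)
    (G : Over (Spec (CommRingCat.of k))) [GrpObj G] [IsCommMonObj G] [LocallyOfFiniteType G.hom] [QuasiCompact G.hom]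
    (i : ℕ) (hi : d < i) : Subsingleton (EtCoh.H (Spec (CommRingCat.of k)) (DivSh.etSh G) i) := by
  obtain ⟨j, rfl⟩ : ∃ j, i = j + 1 := ⟨i - 1, by omega⟩
  obtain ⟨N, hN, hst⟩ := Divis.exists_stable k G
  have hN0 : N ≠ 0 := by rintro rfl; simp at hN
  let F := DivSh.etSh G
  have hker := EtVan.subsingleton_of_killed (Spec (CommRingCat.of k)) d N hN0 (fun ℓ hℓ _ => hcd ℓ hℓ)
    (kernel (N • 𝟙 F)) (EtVan.killed_ker N) (j + 1) hi
  refine K809.Les.subsingleton_mid _ (EtVan.shortExact_ker (N • 𝟙 F)) hker ?_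
  let U := Abelian.image (N • 𝟙 F)
  change Subsingleton (EtCoh.H (Spec (CommRingCat.of k)) U (j + 1))
  refine EtVan.subsingleton_of_injective (fun a => Groth.Agent.S7743.result k U (j + 1) (by omega) a) fun ℓ hℓ a ha => ?_
  refine EtVan.injective_smul _ U ℓ j ?_ ?_ a ha
  · exact EtVan.subsingleton_of_killed (Spec (CommRingCat.of k)) d ℓ hℓ.ne_zero
      (fun ℓ' hℓ' _ => hcd ℓ' hℓ') _ (EtVan.killed_ker ℓ) (j + 1) hi
  · by_cases h0 : (ℓ : k) = 0
    · exact CdChar.cd_char k ℓ hℓ h0 _ (EtVan.isPrimaryTorsion_of_killed ℓ (EtVan.killed_coker ℓ)) j (by omega)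
    · have h1 : Etale ((𝟙 G : G ⟶ G) ^ (ℓ * N)).left :=
        Groth.Agent.S4112.result k G (ℓ * N) (by rw [Nat.cast_mul]; exact mul_ne_zero h0 hN)
      have h2 : Epi (ℓ • 𝟙 U) := DivSh.epi_smul_image G ℓ N (hst ℓ h0)
      have h3 : IsZero (cokernel (ℓ • 𝟙 U)) := isZero_cokernel_of_epi _
      have h4 : 1 • 𝟙 (cokernel (ℓ • 𝟙 U)) = 0 := by
        rw [one_smul]
        exact (IsZero.iff_id_eq_zero _).1 h3
      refine subsingleton_of_forall_eq 0 fun x => ?_
      have h5 := K809.Les.nsmul_eq_zero (X := (constantSheaf (Spec (CommRingCat.of k)).smallEtaleTopology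
        AddCommGrpCat.{u + 1}).obj (AddCommGrpCat.of (ULift ℤ))) h4 j x
      rwa [one_smul] at h5

/-- The smooth case. -/
theorem subsingleton_smooth (d : ℕ) (hd : 2 ≤ d)
    (hcd : ∀ ℓ : ℕ, ℓ.Prime → Dix.CohDimLEAt (Spec (CommRingCat.of k)) ℓ d)
    (G : Over (Spec (CommRingCat.of k))) [GrpObj G] [IsCommMonObj G] [Smooth G.hom] [QuasiCompact G.hom]
    (i : ℕ) (hi : d < i) : Subsingleton (BigSite.H Scheme.fppfPrecoverage (Spec (CommRingCat.of k))
      (CGrpSh.pts Scheme.fppfPrecoverage G) i) := by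
  have hQt : LocallyOfFiniteType G.hom := inferInstance
  have hQs : IsSeparated G.hom := K396.Basic.isSeparated_hom G
  obtain ⟨e⟩ := K809.Comp.nonempty_H_pts G (K809.FieldSeq.af G) i
  have := subsingleton_et d hd hcd G i hi
  exact e.symm.injective.subsingleton

/-- Multiplication by a power of `p` is surjective on `H^i`, `i ≥ 2`, in characteristic `p`. -/
theorem surjective_smul_et (p : ℕ) (hp : p.Prime) (hpk : (p : k) = 0) (r : ℕ)
    (F : EtCoh.Ab (Spec (CommRingCat.of k))) (j : ℕ) (hj : 2 ≤ j) (x : EtCoh.H (Spec (CommRingCat.of k)) F j) :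
    ∃ y, p ^ r • y = x := by
  have h : ∀ F' : EtCoh.Ab (Spec (CommRingCat.of k)), (p ^ r) • 𝟙 F' = 0 → ∀ i, 1 < i →
      Subsingleton (EtCoh.H (Spec (CommRingCat.of k)) F' i) := by
    intro F' hF' i hi
    refine EtVan.subsingleton_of_killed _ 1 (p ^ r) (pow_ne_zero _ hp.ne_zero) (fun ℓ hℓ hd => ?_) F' hF' i hi
    have h1 : ℓ ∣ p := hℓ.dvd_of_dvd_pow hd
    have h2 : ℓ = p := (Nat.prime_dvd_prime_iff_eq hℓ hp).1 h1
    rw [h2]
    exact CdChar.cd_char k p hp hpk
  exact EtVan.surjective_smul _ F (p ^ r) j (h _ (EtVan.killed_ker _) _ (by omega))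
    (h _ (EtVan.killed_coker _) _ (by omega)) x

/-- The infinitesimal case. -/
theorem subsingleton_inf (d : ℕ) (hd : 2 ≤ d)
    (hcd : ∀ ℓ : ℕ, ℓ.Prime → Dix.CohDimLEAt (Spec (CommRingCat.of k)) ℓ d) (p : ℕ) (hp : p.Prime) [CharP k p]
    (I : Over (Spec (CommRingCat.of k))) [GrpObj I] [IsCommMonObj I] [IsFinite I.hom] [Flat I.hom]
    [LocallyOfFinitePresentation I.hom] [Subsingleton I.left]
    (i : ℕ) (hi : d < i) : Subsingleton (BigSite.H Scheme.fppfPrecoverage (Spec (CommRingCat.of k))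
      (CGrpSh.pts Scheme.fppfPrecoverage I) i) := by
  obtain ⟨j, rfl⟩ : ∃ j, i = j + 1 := ⟨i - 1, by omega⟩
  obtain ⟨r, hr⟩ := InfPow.id_pow_eq_one p I
  obtain ⟨A, gA, cA, v, hv, hm, hs, ha⟩ := K809.UnitSch.exists_emb (CommRingCat.of k) I
  have hA : IsAffineHom A.hom := inferInstance
  obtain ⟨M, gM, cM, q, hq, hfin, hsur, haM, hk, -⟩ :=
    K809.QuotFin.exists_quot (I := I) (G := A) v ⟨‹_›, ‹_›, ‹_›⟩ hA
  have hM : IsAffine M.left := haM ha
  obtain ⟨q1, q2, q3⟩ := hfin
  have hM' : IsAffineHom M.hom := inferInstance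
  have hsm : Smooth M.hom := by
    have : Smooth (q.left ≫ M.hom) := by rw [Over.w]; exact hs
    exact Groth.Agent.S0115.result q.left M.hom
  have w : v ≫ q = 1 := by
    have := hk.w
    rw [this]
    rfl
  have hex := K809.SeqExact.shortExact v q w hk
  have hA0 := subsingleton_smooth d hd hcd A (j + 1) hi
  refine subsingleton_of_forall_eq 0 fun x => ?_
  obtain ⟨y, rfl⟩ := (K809.Les.exact₁ _ hex j x).1
    (Subsingleton.elim (α := BigSite.H Scheme.fppfPrecoverage (Spec (CommRingCat.of k))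
      (CGrpSh.pts Scheme.fppfPrecoverage A) (j + 1)) _ _)
  have hQt : LocallyOfFiniteType M.hom := inferInstance
  have hQs : IsSeparated M.hom := K396.Basic.isSeparated_hom M
  obtain ⟨e⟩ := K809.Comp.nonempty_H_pts M (K809.FieldSeq.af M) j
  obtain ⟨z, hz⟩ := surjective_smul_et p hp (CharP.cast_eq_zero k p) r _ j (by omega) (e.symm y)
  have hy : y = p ^ r • e z := by rw [← map_nsmul, hz, e.apply_symm_apply]
  have h1 := K809.Comp.nsmul_id_pts Scheme.fppfPrecoverage I (p ^ r) hr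
  have h2 := (congrArg (K809.Les.del _ hex j) hy).trans (map_nsmul (K809.Les.del _ hex j) (p ^ r) (e z))
  exact h2.trans (K809.Les.nsmul_eq_zero _ h1 (j + 1) _)

/-- `H^i_fppf(k, G) = 0` above the cohomological dimension. -/
theorem subsingleton_H (d : ℕ) (hd : 2 ≤ d)
    (hcd : ∀ ℓ : ℕ, ℓ.Prime → Dix.CohDimLEAt (Spec (CommRingCat.of k)) ℓ d)
    (G : Over (Spec (CommRingCat.of k))) [GrpObj G] [IsCommMonObj G] [LocallyOfFiniteType G.hom] [QuasiCompact G.hom]
    (i : ℕ) (hi : d < i) : Subsingleton (BigSite.H Scheme.fppfPrecoverage (Spec (CommRingCat.of k))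
      (CGrpSh.pts Scheme.fppfPrecoverage G) i) := by
  obtain ⟨p, hp⟩ := CharP.exists k
  rcases CharP.char_is_prime_or_zero k p with h | h
  · obtain ⟨I, Q, gI, cI, gQ, cQ, u, q, hu, hq, w, hk, f1, f2, f3, f4, hsm, hqc, -, -, -, -, hex⟩ :=
      K809.FieldSeq.exists_seq G
    have hQc : QuasiCompact Q.hom := hqc inferInstance
    have f5 : Subsingleton I.left := ⟨fun x y => Scheme.Hom.injective I.hom (Subsingleton.elim _ _)⟩
    exact K809.Les.subsingleton_mid _ hex (subsingleton_inf d hd hcd p h I i hi) (subsingleton_smooth d hd hcd Q i hi)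
  · subst h
    have : CharZero k := CharP.charP_to_charZero k
    have hG : Smooth G.hom := Groth.Agent.S0353.result k G
    exact subsingleton_smooth d hd hcd G i hi

end K789.GrpVan
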